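import Cfsg.Agent.H355.PQ.Defs

/-!
# S4612, row of `PSL_n`, [D6]: orders (helper791)
-/

set_option autoImplicit false

open Cfsg Module

namespace Cfsg.Agent.H791.PQL

open Cfsg.Agent.H317.PQ Cfsg.Agent.H329.PQ Cfsg.Agent.H355.PQ

universe u v

section Card

variable {F : Type u} [Field F] {V : Type v} [AddCommGroup V] [Module F V]

theorem card_equiv [FiniteDimensional F V] [Finite F] :
    Nat.card (V ≃ₗ[F] V) = ∏ i : Fin (finrank F V), (Nat.card F ^ finrank F V - Nat.card F ^ (i : ℕ)) := by
  have := Fintype.ofFinite F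
  rw [Nat.card_eq_fintype_card (α := F), ← Matrix.card_GL_field (𝔽 := F) (finrank F V)]
  refine (Nat.card_congr (Matrix.GeneralLinearGroup.toLin.trans
    (LinearMap.GeneralLinearGroup.generalLinearEquiv F (Fin (finrank F V) → F)) |>.toEquiv.trans ?_)).symm
  exact
    { toFun := fun f => (finBasis F V).equivFun.trans (f.trans (finBasis F V).equivFun.symm)
      invFun := fun f => (finBasis F V).equivFun.symm.trans (f.trans (finBasis F V).equivFun)
      left_inv := fun f => LinearEquiv.ext fun x => by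
        simp only [LinearEquiv.trans_apply, LinearEquiv.apply_symm_apply]
      right_inv := fun f => LinearEquiv.ext fun x => by
        simp only [LinearEquiv.trans_apply, LinearEquiv.symm_apply_apply] }

theorem finite_equiv [FiniteDimensional F V] [Finite F] : Finite (V ≃ₗ[F] V) := by
  have : Finite V := Module.finite_of_finite F
  exact Finite.of_injective (fun f : V ≃ₗ[F] V => (f : V → V)) (fun f g h => LinearEquiv.ext (congrFun h))

theorem fact_equiv [FiniteDimensional F V] [Finite F] {p : ℕ} (hpF : ¬ p ∣ Nat.card F) :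
    (Nat.card (V ≃ₗ[F] V)).factorization p =
      ∑ j ∈ Finset.Icc 1 (finrank F V), (Nat.card F ^ j - 1).factorization p := by
  have h1 : 1 < Nat.card F := Finite.one_lt_card
  set Q := Nat.card F with hQ
  set n := finrank F V with hn
  have h2 : ∀ i : Fin n, Q ^ n - Q ^ (i : ℕ) = Q ^ (i : ℕ) * (Q ^ (n - i) - 1) := by
    intro i
    rw [Nat.mul_sub, mul_one, ← pow_add, Nat.add_sub_cancel' i.2.le]
  have h3 : ∀ i : Fin n, Q ^ (n - (i : ℕ)) - 1 ≠ 0 := by
    intro i
    have := Nat.one_lt_pow (n := n - (i : ℕ)) (by omega) h1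
    omega
  have h4 : ∀ i : Fin n, Q ^ (i : ℕ) ≠ 0 := fun i => by positivity
  rw [card_equiv, Nat.factorization_prod (fun i _ => by rw [h2]; exact mul_ne_zero (h4 i) (h3 i)), Finset.sum_apply']
  rw [Finset.sum_congr rfl (fun i _ => by
    rw [h2, Nat.factorization_mul (h4 i) (h3 i), Finsupp.add_apply, Nat.factorization_pow, Finsupp.smul_apply,
      Nat.factorization_eq_zero_of_not_dvd hpF, smul_zero, zero_add])]
  rw [Fin.sum_univ_eq_sum_range (fun i => (Q ^ (n - i) - 1).factorization p) n]
  refine Finset.sum_bij' (fun i _ => n - i) (fun j _ => n - j) ?_ ?_ ?_ ?_ ?_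
  · intro i hi; simp only [Finset.mem_range] at hi; simp only [Finset.mem_Icc]; omega
  · intro j hj; simp only [Finset.mem_Icc] at hj; simp only [Finset.mem_range]; omega
  · intro i hi; simp only [Finset.mem_range] at hi; omega
  · intro j hj; simp only [Finset.mem_Icc] at hj; omega
  · intro i _; rfl

/-- only the multiples of `e` count -/
theorem sum_fact {p e Q : ℕ} (he : ∀ d : ℕ, p ∣ Q ^ d - 1 ↔ e ∣ d) (he1 : 1 ≤ e) {w a : ℕ} (ha : a < e) :
    ∑ j ∈ Finset.Icc 1 (w * e + a), (Q ^ j - 1).factorization p =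
      ∑ k ∈ Finset.Icc 1 w, (Q ^ (e * k) - 1).factorization p := by
  rw [← Finset.sum_filter_of_ne (s := Finset.Icc 1 (w * e + a)) (p := fun j => e ∣ j)]
  · symm
    refine Finset.sum_bij' (fun k _ => e * k) (fun j _ => j / e) ?_ ?_ ?_ ?_ ?_
    · intro k hk
      simp only [Finset.mem_Icc] at hk
      simp only [Finset.mem_filter, Finset.mem_Icc, dvd_mul_right, and_true]
      constructor
      · exact Nat.mul_pos he1 hk.1
      · nlinarith
    · intro j hj
      simp only [Finset.mem_filter, Finset.mem_Icc] at hj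
      obtain ⟨k, rfl⟩ := hj.2
      rw [Nat.mul_div_cancel_left _ (by omega), Finset.mem_Icc]
      constructor
      · rcases Nat.eq_zero_or_pos k with rfl | h
        · simp at hj
        · exact h
      · by_contra h
        have : w + 1 ≤ k := by omega
        nlinarith
    · intro k _
      exact Nat.mul_div_cancel_left _ (by omega)
    · intro j hj
      simp only [Finset.mem_filter] at hj
      exact Nat.mul_div_cancel' hj.2
    · intro k _
      rfl
  · intro j _ hj
    by_contra h
    exact hj (Nat.factorization_eq_zero_of_not_dvd (fun h' => h ((he j).1 h')))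

theorem pos_iff {p n : ℕ} (hp : p.Prime) (hn : n ≠ 0) : 0 < n.factorization p ↔ p ∣ n :=
  ⟨fun h => by
    by_contra h'
    rw [Nat.factorization_eq_zero_of_not_dvd h'] at h
    exact lt_irrefl _ h, fun h => hp.factorization_pos_of_dvd hn h⟩

/-- the kernel of a homomorphism to a group of order prime to `p` -/
theorem fact_ker {G A : Type*} [Group G] [Finite G] [Group A] [Finite A] {p : ℕ} (hA : ¬ p ∣ Nat.card A) (φ : G →* A) :
    (Nat.card ↥φ.ker).factorization p = (Nat.card G).factorization p := by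
  rw [← Subgroup.card_mul_index φ.ker, Nat.factorization_mul Nat.card_pos.ne' Subgroup.index_ne_zero_of_finite,
    Finsupp.add_apply, Subgroup.index_ker, Nat.factorization_eq_zero_of_not_dvd (n := Nat.card ↥φ.range)
      (fun h => hA (h.trans (Subgroup.card_subgroup_dvd_card _))), add_zero]

theorem card_sl [FiniteDimensional F V] : Nat.card (SpecialLinearGroup F V) =
    Nat.card ↥(LinearEquiv.det : (V ≃ₗ[F] V) →* Fˣ).ker :=
  Nat.card_congr (Equiv.refl _)

theorem not_dvd_units [Finite F] {p e : ℕ} (he : ∀ d : ℕ, p ∣ Nat.card F ^ d - 1 ↔ e ∣ d) (he2 : 2 ≤ e) :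
    ¬ p ∣ Nat.card Fˣ := by
  rw [Nat.card_units, show Nat.card F - 1 = Nat.card F ^ 1 - 1 by rw [pow_one], he]
  intro h
  have := Nat.le_of_dvd one_pos h
  omega

theorem fact_sl [FiniteDimensional F V] [Finite F] {p e : ℕ} (he : ∀ d : ℕ, p ∣ Nat.card F ^ d - 1 ↔ e ∣ d)
    (he2 : 2 ≤ e) : (Nat.card (SpecialLinearGroup F V)).factorization p = (Nat.card (V ≃ₗ[F] V)).factorization p := by
  have := finite_equiv (F := F) (V := V)
  rw [card_sl, fact_ker (not_dvd_units he he2)]

theorem finite_sl [FiniteDimensional F V] [Finite F] : Finite (SpecialLinearGroup F V) := by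
  have := finite_equiv (F := F) (V := V)
  infer_instance

end Card

section

variable {F : Type u} [Field F] {K : Type u} [Field K] [Algebra F K] {V : Type v} [AddCommGroup V] [Module F V]
  {p e w : ℕ} {ζ : Kˣ}

theorem dvd_card_SL [FiniteDimensional F V] [Finite F] (hp : p.Prime) (hpF : ¬ p ∣ Nat.card F)
    (he : ∀ d : ℕ, p ∣ Nat.card F ^ d - 1 ↔ e ∣ d) (he2 : 2 ≤ e) :
    p ∣ Nat.card (SpecialLinearGroup F V) ↔ e ≤ finrank F V := by
  have h0 : Nat.card (SpecialLinearGroup F V) ≠ 0 := by
    have := finite_sl (F := F) (V := V)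
    exact Nat.card_pos.ne'
  rw [← pos_iff hp h0, fact_sl he he2, fact_equiv hpF, pos_iff_ne_zero, ne_eq,
    Finset.sum_eq_zero_iff]
  have h1 : 1 < Nat.card F := Finite.one_lt_card
  constructor
  · intro h
    by_contra hlt
    refine h fun j hj => ?_
    rw [Finset.mem_Icc] at hj
    refine Nat.factorization_eq_zero_of_not_dvd fun h' => ?_
    have := Nat.le_of_dvd (by omega) ((he j).1 h')
    omega
  · intro h h'
    have h2 := h' e (Finset.mem_Icc.2 ⟨by omega, h⟩)
    have h3 : Nat.card F ^ e - 1 ≠ 0 := by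
      have := Nat.one_lt_pow (n := e) (by omega) h1
      omega
    exact ((pos_iff hp h3).2 ((he e).2 dvd_rfl)).ne' h2

/-- the multiplications by `K^*` -/
def mulHom (F : Type u) [Field F] (K : Type u) [Field K] [Algebra F K] (w : ℕ) (V : Type v) [AddCommGroup V]
    [Module F V] : Kˣ →* (Sp K w V ≃ₗ[F] Sp K w V) where
  toFun c := el c (LinearEquiv.refl F V)
  map_one' := LinearEquiv.ext fun x => by
    rw [el_apply]
    exact Prod.ext (funext fun i => one_mul _) rfl
  map_mul' c d := LinearEquiv.ext fun x => by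
    rw [LinearEquiv.mul_apply, el_apply, el_apply, el_apply]
    exact Prod.ext (funext fun i => mul_assoc _ _ _) rfl

theorem el_eq (c : Kˣ) (A : V ≃ₗ[F] V) :
    (el c A : Sp K w V ≃ₗ[F] Sp K w V) = mulHom F K w V c * (LinearEquiv.refl F (Fin w → K)).prodCongr A :=
  LinearEquiv.ext fun _ => rfl

theorem det_el_eq_one [FiniteDimensional F V] (h : Dat F K p e ζ) (he : 2 ≤ e) {A : V ≃ₗ[F] V}
    (hA : LinearEquiv.det A = 1) : LinearEquiv.det (el ζ A : Sp K w V ≃ₗ[F] Sp K w V) = 1 := by
  have := h.finF
  have := h.finK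
  have hfd : FiniteDimensional F K := Module.Finite.of_finite
  rw [el_eq, map_mul]
  have h1 : LinearEquiv.det ((LinearEquiv.refl F (Fin w → K)).prodCongr A) = 1 := by
    rw [← Units.val_inj, LinearEquiv.coe_det, Units.val_one]
    have h2 : (((LinearEquiv.refl F (Fin w → K)).prodCongr A : Sp K w V ≃ₗ[F] Sp K w V) : Sp K w V →ₗ[F] Sp K w V) =
        LinearMap.prodMap LinearMap.id (A : V →ₗ[F] V) := LinearMap.ext fun _ => rfl
    rw [h2, LinearMap.det_prodMap, LinearMap.det_id, one_mul, ← LinearEquiv.coe_det, hA, Units.val_one]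
  rw [h1, mul_one]
  have h3 : orderOf (LinearEquiv.det (mulHom F K w V ζ)) ∣ p := by
    rw [orderOf_dvd_iff_pow_eq_one, ← map_pow, ← map_pow, ← h.ord, pow_orderOf_eq_one, map_one, map_one]
  rcases (Nat.dvd_prime h.prime).1 h3 with h4 | h4
  · exact orderOf_eq_one_iff.1 h4
  · exact absurd (h4 ▸ orderOf_dvd_natCard _) (not_dvd_units h.min he)

/-- `GL_w(K)` -/
def glHom (F : Type u) [Field F] (K : Type u) [Field K] [Algebra F K] (w : ℕ) (V : Type v) [AddCommGroup V]
    [Module F V] : ((Fin w → K) ≃ₗ[K] (Fin w → K)) →* (Sp K w V ≃ₗ[F] Sp K w V) where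
  toFun X := (X.restrictScalars F).prodCongr (LinearEquiv.refl F V)
  map_one' := LinearEquiv.ext fun _ => rfl
  map_mul' _ _ := LinearEquiv.ext fun _ => rfl

theorem glHom_injective : Function.Injective (glHom F K w V) := by
  intro X Y h
  refine LinearEquiv.ext fun x => ?_
  have := congrArg Prod.fst (LinearEquiv.congr_fun h (x, 0))
  exact this

theorem glHom_comm (X : (Fin w → K) ≃ₗ[K] (Fin w → K)) (c : Kˣ) (A : V ≃ₗ[F] V) :
    glHom F K w V X * el c A = el c A * glHom F K w V X := by
  refine LinearEquiv.ext fun x => ?_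
  rw [LinearEquiv.mul_apply, LinearEquiv.mul_apply, el_apply, el_apply]
  refine Prod.ext ?_ rfl
  exact X.map_smul (c : K) x.1

theorem not_dvd_index [FiniteDimensional F V] (h : Dat F K p e ζ) (hpF : ¬ p ∣ Nat.card F) (he : 2 ≤ e)
    (hV : finrank F V < e) {A : V ≃ₗ[F] V} (g : SpecialLinearGroup F (Sp K w V)) (hg : g.1 = el ζ A) :
    ¬ p ∣ (Subgroup.centralizer ({g} : Set (SpecialLinearGroup F (Sp K w V)))).index := by
  have := h.finF
  have := h.finK
  have hfd : FiniteDimensional F K := Module.Finite.of_finite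
  have hfin := finite_sl (F := F) (V := Sp K w V)
  have hfin2 := finite_equiv (F := F) (V := Sp K w V)
  have hfin3 := finite_equiv (F := K) (V := Fin w → K)
  set C := Subgroup.centralizer ({g} : Set (SpecialLinearGroup F (Sp K w V))) with hC
  let δ : ((Fin w → K) ≃ₗ[K] (Fin w → K)) →* Fˣ := LinearEquiv.det.comp (glHom F K w V)
  let ι : ↥δ.ker →* ↥C :=
    { toFun := fun X => ⟨⟨glHom F K w V X.1, X.2⟩, by
        rw [hC, Subgroup.mem_centralizer_singleton_iff]
        refine Subtype.ext ?_
        change glHom F K w V X.1 * g.1 = g.1 * glHom F K w V X.1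
        rw [hg]
        exact glHom_comm _ _ _⟩
      map_one' := Subtype.ext (Subtype.ext (map_one _))
      map_mul' := fun X Y => Subtype.ext (Subtype.ext (map_mul _ _ _)) }
  have hι : Function.Injective ι := by
    intro X Y hXY
    refine Subtype.ext (glHom_injective (F := F) (V := V) ?_)
    exact congrArg (fun x : ↥C => x.1.1) hXY
  have h1 : Nat.card ↥δ.ker ∣ Nat.card ↥C := Subgroup.card_dvd_of_injective ι hι
  have hcK : Nat.card K = Nat.card F ^ e := by
    rw [← h.deg]; exact Module.natCard_eq_pow_finrank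
  have hpK : ¬ p ∣ Nat.card K := by
    rw [hcK]
    exact fun h' => hpF (h.prime.dvd_of_dvd_pow h')
  have hdim : finrank F (Sp K w V) = w * e + finrank F V := by
    rw [Module.finrank_prod, Module.finrank_pi_fintype]
    simp [h.deg]
  have h2 : (Nat.card ↥δ.ker).factorization p = (Nat.card (SpecialLinearGroup F (Sp K w V))).factorization p := by
    rw [fact_ker (not_dvd_units h.min he), fact_sl h.min he, fact_equiv hpK, fact_equiv hpF, hdim,
      sum_fact h.min (by omega) hV, Module.finrank_fintype_fun_eq_card, Fintype.card_fin, hcK]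
    refine Finset.sum_congr rfl fun k _ => ?_
    rw [pow_mul]
  have h3 := (Nat.factorization_le_iff_dvd Nat.card_pos.ne' Nat.card_pos.ne').2 h1 p
  intro hd
  have h4 := C.card_mul_index
  have h5 : C.index ≠ 0 := Subgroup.index_ne_zero_of_finite
  have h6 := (pos_iff h.prime h5).2 hd
  rw [← h4, Nat.factorization_mul Nat.card_pos.ne' h5, Finsupp.add_apply] at h2
  omega

end

end Cfsg.Agent.H791.PQL
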